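import Groth.Agent.AlgSp2.SmoothDescent
import Groth.Agent.ArtinFlat.Basic
import Groth.Prelude.Def_SGA3x
import Mathlib.RingTheory.Artinian.Ring
import Mathlib.RingTheory.Spectrum.Prime.Topology
import Mathlib.LinearAlgebra.DirectSum.Finsupp
import Mathlib.LinearAlgebra.TensorProduct.Pi

/-!
# Essentially free morphisms: flatness, base change, and artinian bases
-/

set_option autoImplicit false
universe u v

open CategoryTheory CategoryTheory.Limits AlgebraicGeometry TensorProduct

noncomputable section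

namespace Groth.EssFree

theorem projective_of_flat_artinian {R : Type u} [CommRing R] [IsArtinianRing R] (M : Type u) [AddCommGroup M]
    [Module R M] [Module.Flat R M] : Module.Projective R M := by
  classical
  let e := MaximalSpectrum.toPiLocalizationEquiv R
  letI : Fintype (MaximalSpectrum R) := Fintype.ofFinite _
  let C := fun I : MaximalSpectrum R => Localization.AtPrime I.asIdeal
  haveI hC : ∀ I, Module.Projective R (C I) := fun I => by
    haveI : Module.Projective R (∀ I, C I) := Module.Projective.of_equiv e.toLinearEquiv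
    exact Module.Projective.of_split (LinearMap.single R C I) (LinearMap.proj I)
      (LinearMap.ext fun x => by simp)
  haveI : ∀ I, Module.Projective R (C I ⊗[R] M) := fun I => by
    haveI : IsArtinianRing (C I) :=
      IsArtinianRing.localization_artinian I.asIdeal.primeCompl (Localization.AtPrime I.asIdeal)
    haveI : Module.Free (C I) (C I ⊗[R] M) :=
      Groth.ArtinFlat.free_of_flat Groth.ArtinFlat.isNilpotent_maximalIdeal
    let b := Module.Free.chooseBasis (C I) (C I ⊗[R] M)
    haveI : Module.Projective R (Module.Free.ChooseBasisIndex (C I) (C I ⊗[R] M) →₀ C I) :=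
      Module.Projective.of_equiv (finsuppLEquivDirectSum R (C I) _).symm
    exact Module.Projective.of_equiv (b.repr.symm.restrictScalars R)
  let e2 : M ≃ₗ[R] DirectSum (MaximalSpectrum R) fun I => C I ⊗[R] M :=
    (TensorProduct.lid R M).symm ≪≫ₗ TensorProduct.congr e.toLinearEquiv (LinearEquiv.refl R M) ≪≫ₗ
      TensorProduct.piLeft R M C ≪≫ₗ (DirectSum.linearEquivFunOnFintype R _ _).symm
  exact Module.Projective.of_equiv e2.symm

/-- projectivity of functions is stable under base change of affine schemes -/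
theorem projective_of_isPullback {V V' S' S'' : Scheme.{u}} [IsAffine V] [IsAffine S'] [IsAffine S'']
    {vs : V ⟶ S'} {a : S'' ⟶ S'} {m : V' ⟶ V} {w : V' ⟶ S''} (h : IsPullback m w vs a)
    (hP : letI := vs.appTop.hom.toAlgebra; Module.Projective Γ(S', ⊤) Γ(V, ⊤)) :
    letI := w.appTop.hom.toAlgebra; Module.Projective Γ(S'', ⊤) Γ(V', ⊤) := by
  have H := (isPushout_appTop_of_isPullback h).flip
  algebraize [vs.appTop.hom, a.appTop.hom, m.appTop.hom, w.appTop.hom, (vs.appTop ≫ m.appTop).hom]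
  haveI : IsScalarTower Γ(S', ⊤) Γ(V, ⊤) Γ(V', ⊤) := IsScalarTower.of_algebraMap_eq fun x => rfl
  haveI : IsScalarTower Γ(S', ⊤) Γ(S'', ⊤) Γ(V', ⊤) := IsScalarTower.of_algebraMap_eq fun x => by
    change (vs.appTop ≫ m.appTop) x = (a.appTop ≫ w.appTop) x
    rw [← Scheme.Hom.comp_appTop, ← Scheme.Hom.comp_appTop, h.w]
  haveI : Algebra.IsPushout Γ(S', ⊤) Γ(S'', ⊤) Γ(V, ⊤) Γ(V', ⊤) := CommRingCat.isPushout_iff_isPushout.1 H
  exact Module.Projective.of_equiv (Algebra.IsPushout.equiv Γ(S', ⊤) Γ(S'', ⊤) Γ(V, ⊤) Γ(V', ⊤)).toLinearEquiv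

theorem flat_of_isEssentiallyFree {X S : Scheme.{u}} (f : X ⟶ S) (hf : SGA3x.IsEssentiallyFree f) : Flat f := by
  choose U hU hUa S' hS' g hgf hgs hV using hf
  refine IsZariskiLocalAtTarget.of_iSup_eq_top U (top_le_iff.1 fun s _ =>
    TopologicalSpace.Opens.mem_iSup.2 ⟨s, hU s⟩) fun s => ?_
  haveI := hS' s; haveI := hgf s; haveI := hgs s
  haveI : IsAffine (U s : Scheme.{u}) := hUa s
  have hsnd : Flat (pullback.snd f (g s ≫ (U s).ι)) := by
    choose V hx hVa hP using hV s
    refine IsZariskiLocalAtSource.of_iSup_eq_top V (top_le_iff.1 fun x _ =>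
      TopologicalSpace.Opens.mem_iSup.2 ⟨x, hx x⟩) fun x => ?_
    haveI : IsAffine (V x : Scheme.{u}) := hVa x
    rw [HasRingHomProperty.iff_of_isAffine (P := @Flat)]
    letI := ((V x).ι ≫ pullback.snd f (g s ≫ (U s).ι)).appTop.hom.toAlgebra
    haveI := hP x
    change Module.Flat _ _
    infer_instance
  let fst' : pullback f (g s ≫ (U s).ι) ⟶ (f ⁻¹ᵁ U s : Scheme.{u}) :=
    (isPullback_morphismRestrict f (U s)).lift (pullback.snd f (g s ≫ (U s).ι) ≫ g s) (pullback.fst f _) (by
      rw [Category.assoc]; exact pullback.condition.symm)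
  have h1 : IsPullback fst' (pullback.snd f (g s ≫ (U s).ι)) (f ∣_ U s) (g s) := by
    refine IsPullback.of_right ?_ ?_ (isPullback_morphismRestrict f (U s)).flip
    · rw [IsPullback.lift_snd]
      exact IsPullback.of_hasPullback f (g s ≫ (U s).ι)
    · exact IsPullback.lift_fst _ _ _ _
  haveI := Groth.AlgSp2.flat_descendsAlong
  exact MorphismProperty.of_isPullback_of_descendsAlong (P := @Flat)
    (Q := (@Surjective ⊓ @Flat ⊓ @QuasiCompact : MorphismProperty Scheme.{u})) h1.flip
    ⟨⟨inferInstance, inferInstance⟩, inferInstance⟩ hsnd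

theorem isEssentiallyFree_of_flat_artinian (A : Type u) [CommRing A] [IsArtinianRing A] (X : Scheme.{u})
    (f : X ⟶ Spec (CommRingCat.of A)) [Flat f] : SGA3x.IsEssentiallyFree f := by
  intro s
  let S := Spec (CommRingCat.of A)
  refine ⟨⊤, trivial, isAffineOpen_top S, S, inferInstance, (Scheme.topIso S).inv, inferInstance, inferInstance,
    fun x => ?_⟩
  let g := (Scheme.topIso S).inv ≫ (⊤ : S.Opens).ι
  obtain ⟨V, hV, hxV, -⟩ := exists_isAffineOpen_mem_and_subset (X := pullback f g) (x := x)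
    (U := ⊤) (TopologicalSpace.Opens.mem_top x)
  refine ⟨V, hxV, hV, ?_⟩
  haveI : IsAffine (V : Scheme.{u}) := hV
  haveI : Flat (V.ι ≫ pullback.snd f g) := inferInstance
  have hflat := (HasRingHomProperty.iff_of_isAffine (P := @Flat)).1 ‹Flat (V.ι ≫ pullback.snd f g)›
  letI := (V.ι ≫ pullback.snd f g).appTop.hom.toAlgebra
  haveI : Module.Flat Γ(S, ⊤) Γ((V : Scheme.{u}), ⊤) := hflat
  haveI : IsArtinianRing Γ(S, ⊤) :=
    (Scheme.ΓSpecIso (CommRingCat.of A)).symm.commRingCatIsoToRingEquiv.isArtinianRing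
  exact projective_of_flat_artinian _

theorem isEssentiallyFree_baseChange {X S S' : Scheme.{u}} (f : X ⟶ S) (gb : S' ⟶ S)
    (hf : SGA3x.IsEssentiallyFree f) : SGA3x.IsEssentiallyFree (pullback.snd f gb) := by
  intro t
  obtain ⟨U, htU, hUa, T, hT, g, hgf, hgs, hV⟩ := hf (gb.base t)
  haveI : IsAffine (U : Scheme.{u}) := hUa
  haveI := hT; haveI := hgf; haveI := hgs
  obtain ⟨W, hW, htW, hWU⟩ := exists_isAffineOpen_mem_and_subset (X := S') (x := t) (U := gb ⁻¹ᵁ U) htU
  haveI : IsAffine (W : Scheme.{u}) := hW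
  let hu : (W : Scheme.{u}) ⟶ U := S'.homOfLE hWU ≫ (gb ∣_ U)
  have huι : hu ≫ U.ι = W.ι ≫ gb := by
    rw [Category.assoc, morphismRestrict_ι, ← Category.assoc, Scheme.homOfLE_ι]
  refine ⟨W, htW, hW, pullback g hu, inferInstance, pullback.snd g hu, inferInstance, inferInstance, fun x => ?_⟩
  let a := pullback.fst g hu
  let h := pullback.snd g hu ≫ W.ι
  have hha : a ≫ g ≫ U.ι = h ≫ gb := by
    rw [pullback.condition_assoc, huι, Category.assoc]
  have sq : IsPullback (pullback.fst (pullback.snd f gb) h ≫ pullback.fst f gb)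
      (pullback.snd (pullback.snd f gb) h) f (a ≫ g ≫ U.ι) := by
    rw [hha]
    exact (IsPullback.of_hasPullback (pullback.snd f gb) h).paste_horiz (IsPullback.of_hasPullback f gb)
  let m : pullback (pullback.snd f gb) h ⟶ pullback f (g ≫ U.ι) :=
    pullback.lift (pullback.fst (pullback.snd f gb) h ≫ pullback.fst f gb) (pullback.snd _ h ≫ a)
      (by rw [sq.w, Category.assoc])
  have sqm : IsPullback m (pullback.snd (pullback.snd f gb) h) (pullback.snd f (g ≫ U.ι)) a := by
    refine IsPullback.of_right ?_ (pullback.lift_snd _ _ _) (IsPullback.of_hasPullback f (g ≫ U.ι))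
    rw [pullback.lift_fst]
    exact sq
  obtain ⟨V, hxV, hVa, hP⟩ := hV (m.base x)
  haveI : IsAffine (V : Scheme.{u}) := hVa
  have sqV : IsPullback (m ∣_ V) ((m ⁻¹ᵁ V).ι ≫ pullback.snd (pullback.snd f gb) h)
      (V.ι ≫ pullback.snd f (g ≫ U.ι)) a :=
    (isPullback_morphismRestrict m V).paste_vert sqm
  refine ⟨m ⁻¹ᵁ V, hxV, ?_, projective_of_isPullback sqV hP⟩
  exact IsAffine.of_isPullback sqV

end Groth.EssFree
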